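import Groth.Agent.CechEdgeLib.Zero
import Groth.Agent.HyperLib.SS
import Groth.Agent.SiteCoh.DimShift
import Mathlib.CategoryTheory.Abelian.GrothendieckCategory.EnoughInjectives
import Mathlib.CategoryTheory.Abelian.GrothendieckAxioms.FunctorCategory

/-!
The comparison maps from Čech cohomology to sheaf cohomology: existence and uniqueness.
-/

set_option autoImplicit false
set_option linter.unusedSectionVars false

universe u

open CategoryTheory CategoryTheory.Limits Opposite CategoryTheory.Abelian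
open Groth.Agent.EtaleSite Groth.Agent.SiteCoh

namespace Groth.Agent.CechEdgeLib

variable {C : Type u} [SmallCategory C] [HasPullbacks C] {J : GrothendieckTopology C} {U : C}
  {ι : Type u} (Y : ι → Over U)

/-! ### The two theories -/

instance isGrothendieckAbelian_presheaf : IsGrothendieckAbelian.{u} (Cᵒᵖ ⥤ AddCommGrpCat.{u}) :=
  have : IsGrothendieckAbelian.{u} (Sheaf (⊥ : GrothendieckTopology C) AddCommGrpCat.{u}) :=
    inferInstance
  IsGrothendieckAbelian.of_equivalence (sheafBotEquivalence AddCommGrpCat.{u})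

instance enoughInjectives_presheaf : EnoughInjectives (Cᵒᵖ ⥤ AddCommGrpCat.{u}) :=
  IsGrothendieckAbelian.enoughInjectives

theorem shortExact_cx {S : ShortComplex (Cᵒᵖ ⥤ AddCommGrpCat.{u})} (hS : S.ShortExact) :
    (S.map (CechEdge.cxFunctor Y)).ShortExact := by
  have h : (S.map ((Functor.whiskeringLeft (Over U)ᵒᵖ Cᵒᵖ AddCommGrpCat.{u}).obj
      (Over.forget U).op)).ShortExact := hS.map_of_exact _
  exact HyperLib.SS.map_shortExact (FormalCoproduct.mk ι Y).cech _ h

theorem isZero_cechH_injective (I : Cᵒᵖ ⥤ AddCommGrpCat.{u}) [Injective I] (p : ℕ) :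
    IsZero (CohCx.cechH I Y (p + 1)) :=
  CechPre.isZero_cechH_injective Y I p

lemma cechHMap_comp {P Q R : Cᵒᵖ ⥤ AddCommGrpCat.{u}} (φ : P ⟶ Q) (ψ : Q ⟶ R) (p : ℕ)
    (x : CohCx.cechH P Y p) :
    CechEdge.cechHMap Y (φ ≫ ψ) p x = CechEdge.cechHMap Y ψ p (CechEdge.cechHMap Y φ p x) := by
  show (HomologicalComplex.homologyMap ((CechEdge.cxFunctor Y).map (φ ≫ ψ)) p).hom x = _
  rw [Functor.map_comp, HomologicalComplex.homologyMap_comp]
  rfl

lemma cechHMap_id {P : Cᵒᵖ ⥤ AddCommGrpCat.{u}} (p : ℕ) (x : CohCx.cechH P Y p) :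
    CechEdge.cechHMap Y (𝟙 P) p x = x := by
  show (HomologicalComplex.homologyMap ((CechEdge.cxFunctor Y).map (𝟙 P)) p).hom x = _
  rw [CategoryTheory.Functor.map_id, HomologicalComplex.homologyMap_id]
  rfl

lemma HUmap_apply {F G : Sheaf J AddCommGrpCat.{u}} (ψ : F ⟶ G) (p : ℕ) (V : C)
    (x : Ext (CohCx.freeSheaf J V) F p) :
    CechEdge.HUmap ψ p V x = x.comp (Ext.mk₀ ψ) (add_zero p) := rfl

lemma HUmap_comp {F G H : Sheaf J AddCommGrpCat.{u}} (φ : F ⟶ G) (ψ : G ⟶ H) (p : ℕ) (V : C)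
    (x : CohSite.HU F p V) :
    CechEdge.HUmap (φ ≫ ψ) p V x = CechEdge.HUmap ψ p V (CechEdge.HUmap φ p V x) := by
  show (((Sheaf.cohomologyPresheafFunctor J p).map (φ ≫ ψ)).app (op V)).hom x = _
  rw [Functor.map_comp]
  rfl

lemma HUmap_id {F : Sheaf J AddCommGrpCat.{u}} (p : ℕ) (V : C) (x : CohSite.HU F p V) :
    CechEdge.HUmap (𝟙 F) p V x = x := by
  show (((Sheaf.cohomologyPresheafFunctor J p).map (𝟙 F)).app (op V)).hom x = _
  rw [CategoryTheory.Functor.map_id]
  rfl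

lemma HUmap_injective {F G : Sheaf J AddCommGrpCat.{u}} (φ : F ⟶ G) [IsIso φ] (p : ℕ) (V : C) :
    Function.Injective (CechEdge.HUmap φ p V) :=
  Function.LeftInverse.injective (g := CechEdge.HUmap (inv φ) p V) fun x => by
    rw [← HUmap_comp, IsIso.hom_inv_id, HUmap_id]

lemma HUmap_bijective {F G : Sheaf J AddCommGrpCat.{u}} (φ : F ⟶ G) [IsIso φ] (p : ℕ) (V : C) :
    Function.Bijective (CechEdge.HUmap φ p V) :=
  ⟨HUmap_injective φ p V, fun y => ⟨CechEdge.HUmap (inv φ) p V y, by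
    rw [← HUmap_comp, IsIso.inv_hom_id, HUmap_id]⟩⟩

section delta

variable {S T : ShortComplex (Sheaf J AddCommGrpCat.{u})} (hS : S.ShortExact) (hT : T.ShortExact)

lemma extδ_naturality (φ : S ⟶ T) (V : C) (p : ℕ) (x : CohSite.HU S.X₃ p V) :
    CechEdge.HUmap φ.τ₁ (p + 1) V (CechEdge.extδ hS V p x) =
      CechEdge.extδ hT V p (CechEdge.HUmap φ.τ₃ p V x) := by
  let x' : Ext (CohCx.freeSheaf J V) S.X₃ p := x
  show (x'.comp hS.extClass rfl).comp (Ext.mk₀ φ.τ₁) (add_zero (p + 1)) =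
    (x'.comp (Ext.mk₀ φ.τ₃) (add_zero p)).comp hT.extClass rfl
  rw [Ext.comp_assoc_of_third_deg_zero, ShortComplex.ShortExact.extClass_naturality hS hT φ,
    Ext.comp_assoc_of_second_deg_zero]

lemma extδ_HUmap_g (V : C) (p : ℕ) (x : CohSite.HU S.X₂ p V) :
    CechEdge.extδ hS V p (CechEdge.HUmap S.g p V x) = 0 := by
  let x' : Ext (CohCx.freeSheaf J V) S.X₂ p := x
  show (x'.comp (Ext.mk₀ S.g) (add_zero p)).comp hS.extClass rfl =
    (0 : Ext (CohCx.freeSheaf J V) S.X₁ (p + 1))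
  rw [Ext.comp_assoc_of_second_deg_zero, hS.comp_extClass, Ext.comp_zero]

include hS in
lemma exists_HUmap_g_of_extδ_eq_zero (V : C) (p : ℕ) (x : CohSite.HU S.X₃ p V)
    (hx : CechEdge.extδ hS V p x = 0) : ∃ y, CechEdge.HUmap S.g p V y = x :=
  Ext.covariant_sequence_exact₃ (CohCx.freeSheaf J V) hS x rfl hx

include hS in
lemma exists_extδ_of_HUmap_f_eq_zero (V : C) (p : ℕ) (x : CohSite.HU S.X₁ (p + 1) V)
    (hx : CechEdge.HUmap S.f (p + 1) V x = 0) : ∃ y, CechEdge.extδ hS V p y = x :=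
  Ext.covariant_sequence_exact₁ (CohCx.freeSheaf J V) hS x hx rfl

end delta

section cechDelta

variable {S T : ShortComplex (Cᵒᵖ ⥤ AddCommGrpCat.{u})}

/-- The connecting map of Čech cohomology. -/
noncomputable abbrev cδ (hC : (S.map (CechEdge.cxFunctor Y)).ShortExact) (p : ℕ) :
    CohCx.cechH S.X₃ Y p →+ CohCx.cechH S.X₁ Y (p + 1) :=
  (hC.δ p (p + 1) rfl).hom

lemma cδ_naturality (hC : (S.map (CechEdge.cxFunctor Y)).ShortExact)
    (hD : (T.map (CechEdge.cxFunctor Y)).ShortExact) (φ : S ⟶ T) (p : ℕ)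
    (x : CohCx.cechH S.X₃ Y p) :
    CechEdge.cechHMap Y φ.τ₁ (p + 1) (cδ Y hC p x) =
      cδ Y hD p (CechEdge.cechHMap Y φ.τ₃ p x) :=
  ConcreteCategory.congr_hom (HomologicalComplex.HomologySequence.δ_naturality
    ((CechEdge.cxFunctor Y).mapShortComplex.map φ) hC hD p (p + 1) rfl) x

lemma cδ_cechHMap_g (hC : (S.map (CechEdge.cxFunctor Y)).ShortExact) (p : ℕ)
    (x : CohCx.cechH S.X₂ Y p) : cδ Y hC p (CechEdge.cechHMap Y S.g p x) = 0 :=
  ConcreteCategory.congr_hom (hC.comp_δ p (p + 1) rfl) x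

lemma exists_cechHMap_g_of_cδ_eq_zero (hC : (S.map (CechEdge.cxFunctor Y)).ShortExact) (p : ℕ)
    (x : CohCx.cechH S.X₃ Y p) (hx : cδ Y hC p x = 0) :
    ∃ y, CechEdge.cechHMap Y S.g p y = x :=
  (ShortComplex.ab_exact_iff _).1 (hC.homology_exact₃ p (p + 1) rfl) x hx

lemma exists_cδ_of_cechHMap_f_eq_zero (hC : (S.map (CechEdge.cxFunctor Y)).ShortExact) (p : ℕ)
    (x : CohCx.cechH S.X₁ Y (p + 1)) (hx : CechEdge.cechHMap Y S.f (p + 1) x = 0) :
    ∃ y, cδ Y hC p y = x :=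
  (ShortComplex.ab_exact_iff _).1 (hC.homology_exact₁ p (p + 1) rfl) x hx

lemma cδ_surjective_of_injective (hC : (S.map (CechEdge.cxFunctor Y)).ShortExact) [Injective S.X₂]
    (p : ℕ) : Function.Surjective (cδ Y hC p) := fun x =>
  exists_cδ_of_cechHMap_f_eq_zero Y hC p x
    ((AddCommGrpCat.subsingleton_of_isZero (isZero_cechH_injective Y S.X₂ p)).elim _ _)

end cechDelta

/-! ### Natural families in one degree -/

variable (J) in
/-- A natural family of comparison maps in degree `p`. -/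
structure Lev (p : ℕ) where
  /-- the maps -/
  f : ∀ P : Cᵒᵖ ⥤ AddCommGrpCat.{u}, CohCx.cechH P Y p →+ CohSite.HU (CechEdge.shf J P) p U
  nat : ∀ (P Q : Cᵒᵖ ⥤ AddCommGrpCat.{u}) (φ : P ⟶ Q) (x : CohCx.cechH P Y p),
    f Q (CechEdge.cechHMap Y φ p x) = CechEdge.HUmap (CechEdge.shfMap J φ) p U (f P x)

variable (hY : Sieve.ofArrows (fun i => (Y i).left) (fun i => (Y i).hom) ∈ J U)

/-- Restriction to a covering family identifies the sections of a sheaf with the classes of degree zero. -/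
noncomputable def secEquiv (F : Sheaf J AddCommGrpCat.{u}) :
    F.obj.obj (op U) ≃+ CohCx.cechH F.obj Y 0 :=
  AddEquiv.ofBijective (CechEdge.toCech Y F.obj)
    (toCech_bijective_of_isSheaf Y F.obj J hY F.property)

variable {Y} in
lemma sectH0_naturality {F G : Sheaf J AddCommGrpCat.{u}} (φ : F ⟶ G) (s : F.obj.obj (op U)) :
    CechEdge.HUmap φ 0 U (CechEdge.sectH0 J U F s) =
      CechEdge.sectH0 J U G (φ.hom.app (op U) s) := by
  show (Ext.mk₀ (CohFree.ofSect J U F s)).comp (Ext.mk₀ φ) (add_zero 0) =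
    Ext.mk₀ (CohFree.ofSect J U G (φ.hom.app (op U) s))
  rw [Ext.mk₀_comp_mk₀]
  congr 1
  refine (CohFree.homEquivSect J U G).injective ?_
  rw [CohFree.homEquivSect_apply, CohFree.homEquivSect_apply, CohFree.evalGen_ofSect]
  exact congrArg (φ.hom.app (op U)).hom (CohFree.evalGen_ofSect J U F s)

/-- Degree zero. -/
noncomputable def lev₀ : Lev J Y 0 where
  f P := (CechEdge.sectH0 J U (CechEdge.shf J P)).toAddMonoidHom.comp
    ((secEquiv Y hY (CechEdge.shf J P)).symm.toAddMonoidHom.comp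
      (CechEdge.cechHMap Y (toSheafify J P) 0))
  nat P Q φ x := by
    simp only [AddMonoidHom.coe_comp, AddEquiv.coe_toAddMonoidHom, Function.comp_apply]
    rw [sectH0_naturality]
    congr 1
    refine (AddEquiv.symm_apply_eq _).2 ?_
    show _ = CechEdge.toCech Y (CechEdge.shf J Q).obj _
    rw [← cechHMap_toCech]
    have e : CechEdge.toCech Y (CechEdge.shf J P).obj
        ((secEquiv Y hY (CechEdge.shf J P)).symm (CechEdge.cechHMap Y (toSheafify J P) 0 x)) =
        CechEdge.cechHMap Y (toSheafify J P) 0 x :=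
      (secEquiv Y hY (CechEdge.shf J P)).apply_symm_apply _
    exact (cechHMap_comp Y φ (toSheafify J Q) 0 x).symm.trans
      ((congrArg (fun t => CechEdge.cechHMap Y t 0 x) (toSheafify_naturality J φ)).trans
        ((cechHMap_comp Y (toSheafify J P) (CechEdge.shfMap J φ).hom 0 x).trans
          (congrArg _ e.symm)))

lemma lev₀_zero (P : Cᵒᵖ ⥤ AddCommGrpCat.{u}) (s : P.obj (op U)) :
    (lev₀ Y hY).f P (CechEdge.toCech Y P s) =
      CechEdge.sectH0 J U (CechEdge.shf J P) (((toSheafify J P).app (op U)).hom s) := by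
  show CechEdge.sectH0 J U _ ((secEquiv Y hY (CechEdge.shf J P)).symm _) = _
  congr 1
  rw [AddEquiv.symm_apply_eq]
  exact cechHMap_toCech Y (toSheafify J P) s

section step

variable {Y} {p : ℕ} (L : Lev J Y p)

/-- The embedding into an injective presheaf. -/
noncomputable abbrev emb (P : Cᵒᵖ ⥤ AddCommGrpCat.{u}) : ShortComplex (Cᵒᵖ ⥤ AddCommGrpCat.{u}) :=
  DimShift.inj P

/-- The sheafified sequence. -/
theorem shf_shortExact {S : ShortComplex (Cᵒᵖ ⥤ AddCommGrpCat.{u})} (hS : S.ShortExact) :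
    (S.map (presheafToSheaf J AddCommGrpCat.{u})).ShortExact :=
  hS.map_of_exact _

/-- The composite to be descended. -/
noncomputable def shift {S : ShortComplex (Cᵒᵖ ⥤ AddCommGrpCat.{u})} (hS : S.ShortExact) :
    CohCx.cechH S.X₃ Y p →+ CohSite.HU (CechEdge.shf J S.X₁) (p + 1) U :=
  (CechEdge.extδ (shf_shortExact (J := J) hS) U p).comp (L.f S.X₃)

lemma shift_naturality {S T : ShortComplex (Cᵒᵖ ⥤ AddCommGrpCat.{u})} (hS : S.ShortExact)
    (hT : T.ShortExact) (φ : S ⟶ T) (x : CohCx.cechH S.X₃ Y p) :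
    CechEdge.HUmap (CechEdge.shfMap J φ.τ₁) (p + 1) U (shift L hS x) =
      shift L hT (CechEdge.cechHMap Y φ.τ₃ p x) := by
  show _ = CechEdge.extδ (shf_shortExact (J := J) hT) U p (L.f T.X₃ (CechEdge.cechHMap Y φ.τ₃ p x))
  rw [L.nat]
  exact extδ_naturality (shf_shortExact (J := J) hS) (shf_shortExact (J := J) hT)
    ((presheafToSheaf J AddCommGrpCat.{u}).mapShortComplex.map φ) U p (L.f S.X₃ x)

lemma shift_eq_zero {S : ShortComplex (Cᵒᵖ ⥤ AddCommGrpCat.{u})} (hS : S.ShortExact)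
    (x : CohCx.cechH S.X₃ Y p) (hx : cδ Y (shortExact_cx Y hS) p x = 0) : shift L hS x = 0 := by
  obtain ⟨y, rfl⟩ := exists_cechHMap_g_of_cδ_eq_zero Y _ p x hx
  show CechEdge.extδ (shf_shortExact (J := J) hS) U p (L.f S.X₃ (CechEdge.cechHMap Y S.g p y)) = 0
  rw [L.nat]
  exact extδ_HUmap_g (shf_shortExact (J := J) hS) U p (L.f S.X₂ y)

/-- The next map. -/
noncomputable def next (P : Cᵒᵖ ⥤ AddCommGrpCat.{u}) :
    CohCx.cechH P Y (p + 1) →+ CohSite.HU (CechEdge.shf J P) (p + 1) U :=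
  (AddMonoidHom.liftOfSurjective (cδ Y (shortExact_cx Y (DimShift.inj_shortExact P)) p)
    (cδ_surjective_of_injective Y (S := emb P) _ p))
    ⟨shift L (DimShift.inj_shortExact P), fun x hx => shift_eq_zero L _ x hx⟩

lemma next_emb (P : Cᵒᵖ ⥤ AddCommGrpCat.{u}) (x : CohCx.cechH (emb P).X₃ Y p) :
    next L P (cδ Y (shortExact_cx Y (DimShift.inj_shortExact P)) p x) =
      shift L (DimShift.inj_shortExact P) x :=
  AddMonoidHom.liftOfRightInverse_comp_apply _ _ _ _ _

/-- Maps of presheaves extend to the embeddings of a sequence. -/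
lemma exists_to_emb {S : ShortComplex (Cᵒᵖ ⥤ AddCommGrpCat.{u})} (hS : S.ShortExact)
    (P : Cᵒᵖ ⥤ AddCommGrpCat.{u}) (φ : S.X₁ ⟶ P) : ∃ ψ : S ⟶ emb P, ψ.τ₁ = φ := by
  have := hS.mono_f
  let b : S.X₂ ⟶ (emb P).X₂ := Injective.factorThru (φ ≫ (emb P).f) S.f
  have hb : S.f ≫ b = φ ≫ (emb P).f := Injective.comp_factorThru _ _
  have hz : S.f ≫ b ≫ (emb P).g = 0 := by rw [← Category.assoc, hb, Category.assoc, (emb P).zero,
    comp_zero]
  have := hS.epi_g
  refine ⟨{ τ₁ := φ, τ₂ := b, τ₃ := hS.gIsCokernel.desc (CokernelCofork.ofπ _ hz)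
            comm₁₂ := hb.symm
            comm₂₃ := ?_ }, rfl⟩
  exact (hS.gIsCokernel.fac (CokernelCofork.ofπ _ hz) WalkingParallelPair.one).symm

lemma next_delta {S : ShortComplex (Cᵒᵖ ⥤ AddCommGrpCat.{u})} (hS : S.ShortExact)
    (x : CohCx.cechH S.X₃ Y p) :
    next L S.X₁ (cδ Y (shortExact_cx Y hS) p x) = shift L hS x := by
  obtain ⟨ψ, hψ⟩ := exists_to_emb hS S.X₁ (𝟙 _)
  have h1 := cδ_naturality Y (shortExact_cx Y hS) (shortExact_cx Y (DimShift.inj_shortExact S.X₁)) ψ p x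
  rw [hψ, cechHMap_id] at h1
  have h2 := shift_naturality L hS (DimShift.inj_shortExact S.X₁) ψ x
  rw [hψ] at h2
  rw [h1, next_emb, ← h2, show CechEdge.shfMap J (𝟙 S.X₁) = 𝟙 _ from
    (presheafToSheaf J AddCommGrpCat.{u}).map_id _, HUmap_id]

/-- The next level. -/
noncomputable def Lev.succ : Lev J Y (p + 1) where
  f := next L
  nat P Q φ x := by
    obtain ⟨y, rfl⟩ := cδ_surjective_of_injective Y (shortExact_cx Y (DimShift.inj_shortExact P)) p x
    obtain ⟨ψ, hψ⟩ := exists_to_emb (DimShift.inj_shortExact P) Q φ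
    have h1 := cδ_naturality Y (shortExact_cx Y (DimShift.inj_shortExact P))
      (shortExact_cx Y (DimShift.inj_shortExact Q)) ψ p y
    have h2 := shift_naturality L (DimShift.inj_shortExact P) (DimShift.inj_shortExact Q) ψ y
    rw [hψ] at h1 h2
    rw [h1, next_emb, next_emb, ← h2]

end step

/-- All levels. -/
noncomputable def lev : ∀ p, Lev J Y p
  | 0 => lev₀ Y hY
  | p + 1 => (lev p).succ

include hY in
theorem exists_isEdge :
    ∃ e : ∀ (P : Cᵒᵖ ⥤ AddCommGrpCat.{u}) (p : ℕ), CohCx.cechH P Y p →+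
      CohSite.HU (CechEdge.shf J P) p U, CechEdge.IsEdge J Y e :=
  ⟨fun P p => (lev Y hY p).f P,
    { cover := hY
      zero := fun P s => lev₀_zero Y hY P s
      natural := fun P Q φ p x => (lev Y hY p).nat P Q φ x
      delta := fun S hS hC p x => next_delta (lev Y hY p) hS x }⟩

variable {Y}
variable {e e' : ∀ (P : Cᵒᵖ ⥤ AddCommGrpCat.{u}) (p : ℕ), CohCx.cechH P Y p →+
  CohSite.HU (CechEdge.shf J P) p U}

/-- The map of a sheafification of a unit is invertible. -/
lemma isIso_shfMap_toSheafify (P : Cᵒᵖ ⥤ AddCommGrpCat.{u}) :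
    IsIso (CechEdge.shfMap J (toSheafify J P)) := by
  have h := (sheafificationAdjunction J AddCommGrpCat.{u}).left_triangle_components P
  have : IsIso ((sheafificationAdjunction J AddCommGrpCat.{u}).counit.app (CechEdge.shf J P)) :=
    inferInstance
  exact IsIso.of_isIso_fac_right h

lemma zero_unique (he : CechEdge.IsEdge J Y e) (he' : CechEdge.IsEdge J Y e')
    (P : Cᵒᵖ ⥤ AddCommGrpCat.{u}) (x : CohCx.cechH P Y 0) : e P 0 x = e' P 0 x := by
  have := isIso_shfMap_toSheafify (J := J) P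
  refine HUmap_injective (CechEdge.shfMap J (toSheafify J P)) 0 U ?_
  rw [← he.natural, ← he'.natural]
  obtain ⟨s, hs⟩ := (toCech_bijective_of_isSheaf Y _ J he.cover
    (CechEdge.shf J P).property).2 (CechEdge.cechHMap Y (toSheafify J P) 0 x)
  refine (congrArg _ hs.symm).trans (((he.zero _ s).trans (he'.zero _ s).symm).trans ?_)
  exact congrArg _ hs

theorem isEdge_unique (he : CechEdge.IsEdge J Y e) (he' : CechEdge.IsEdge J Y e') : e = e' := by
  funext P p
  induction p generalizing P with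
  | zero => exact AddMonoidHom.ext (zero_unique he he' P)
  | succ p ih =>
    refine AddMonoidHom.ext fun x => ?_
    obtain ⟨y, rfl⟩ := cδ_surjective_of_injective Y (shortExact_cx Y (DimShift.inj_shortExact P)) p x
    exact (he.delta _ (DimShift.inj_shortExact P) _ p y).trans
      ((congrArg (fun f : CohCx.cechH (emb P).X₃ Y p →+ CohSite.HU (CechEdge.shf J (emb P).X₃) p U =>
        CechEdge.extδ (shf_shortExact (J := J) (DimShift.inj_shortExact P)) U p (f y)) (ih (emb P).X₃)).trans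
        (he'.delta _ (DimShift.inj_shortExact P) _ p y).symm)

end Groth.Agent.CechEdgeLib
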