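import Groth.Agent.CechEdgeLib.Edge

/-!
Comparison maps and refinements.
-/

set_option autoImplicit false
set_option linter.unusedSectionVars false

universe u

open CategoryTheory CategoryTheory.Limits Opposite
open Groth.Agent.EtaleSite

namespace Groth.Agent.CechEdgeLib

variable {C : Type u} [SmallCategory C] [HasPullbacks C] {J : GrothendieckTopology C} {U : C}
  {ι κ : Type u} {Y : ι → Over U} {Y' : κ → Over U}
  (f : FormalCoproduct.mk ι Y ⟶ FormalCoproduct.mk κ Y')

/-- The refinement maps of Čech complexes, naturally in the presheaf. -/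
noncomputable def refineNat : CechEdge.cxFunctor Y' ⟶ CechEdge.cxFunctor Y where
  app P := CohCx.cechRefine P f
  naturality P Q φ := by
    show (AlgebraicTopology.alternatingCofaceMapComplex AddCommGrpCat.{u}).map _ ≫
        (AlgebraicTopology.alternatingCofaceMapComplex AddCommGrpCat.{u}).map _ =
      (AlgebraicTopology.alternatingCofaceMapComplex AddCommGrpCat.{u}).map _ ≫
        (AlgebraicTopology.alternatingCofaceMapComplex AddCommGrpCat.{u}).map _
    rw [← Functor.map_comp, ← Functor.map_comp]
    congr 1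
    exact ((Functor.whiskeringLeft _ _ _).map
      (NatTrans.rightOp (FormalCoproduct.cechFunctor.map f))).naturality
        ((FormalCoproduct.evalOp.{u} (Over U) AddCommGrpCat.{u}).map
          (Functor.whiskerLeft (Over.forget U).op φ))

lemma refineNat_toCech (P : Cᵒᵖ ⥤ AddCommGrpCat.{u}) (s : P.obj (op U)) :
    (HomologicalComplex.homologyMap ((refineNat f).app P) 0).hom (CechEdge.toCech Y' P s) =
      CechEdge.toCech Y P s := by
  refine toX₀_injective Y P ?_
  have h : HomologicalComplex.homologyMap ((refineNat f).app P) 0 ≫ toX₀ Y P =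
      toX₀ Y' P ≫ ((refineNat f).app P).f 0 := by
    have : IsIso ((CechEdge.cx P Y').homologyπ 0) :=
      (CechEdge.cx P Y').isIso_homologyπ 0 0 (by simp) ((CechEdge.cx P Y').shape 0 0 (by simp))
    rw [← cancel_epi ((CechEdge.cx P Y').homologyπ 0), ← Category.assoc, ← Category.assoc,
      homologyπ_toX₀]
    refine (congrArg (· ≫ toX₀ Y P)
      (HomologicalComplex.homologyπ_naturality ((refineNat f).app P) 0)).trans ?_
    rw [Category.assoc]
    refine (congrArg (_ ≫ ·) (homologyπ_toX₀ Y P)).trans ?_
    exact HomologicalComplex.cyclesMap_i ((refineNat f).app P) 0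
  refine (ConcreteCategory.congr_hom h (CechEdge.toCech Y' P s)).trans ?_
  rw [ConcreteCategory.comp_apply, toX₀_toCech, toX₀_toCech]
  have e : CechEdge.toCech₀ P Y' ≫ ((refineNat f).app P).f 0 = CechEdge.toCech₀ P Y := by
    refine Pi.hom_ext _ _ fun a => ?_
    show (_ ≫ Pi.lift _) ≫ Pi.π _ a = Pi.lift _ ≫ Pi.π _ a
    rw [Category.assoc, Pi.lift_π, Pi.lift_π]
    refine (Category.assoc _ _ _).symm.trans ((congrArg (· ≫ _) (Pi.lift_π _ _)).trans ?_)
    refine Eq.trans ?_ (Eq.refl (P.map (∏ᶜ Y ∘ a).hom.op))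
    show P.map _ ≫ P.map _ = P.map _
    rw [← P.map_comp]
    congr 1
    exact congrArg Quiver.Hom.op (Over.w _)
  exact ConcreteCategory.congr_hom e s

variable
  {e : ∀ (P : Cᵒᵖ ⥤ AddCommGrpCat.{u}) (p : ℕ), CohCx.cechH P Y p →+
    CohSite.HU (CechEdge.shf J P) p U}
  {e' : ∀ (P : Cᵒᵖ ⥤ AddCommGrpCat.{u}) (p : ℕ), CohCx.cechH P Y' p →+
    CohSite.HU (CechEdge.shf J P) p U}

theorem edge_refine (he : CechEdge.IsEdge J Y e) (he' : CechEdge.IsEdge J Y' e')
    (P : Cᵒᵖ ⥤ AddCommGrpCat.{u}) (p : ℕ) (x : CohCx.cechH P Y' p) :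
    e P p ((HomologicalComplex.homologyMap (CohCx.cechRefine P f) p).hom x) = e' P p x := by
  have h : (fun (P : Cᵒᵖ ⥤ AddCommGrpCat.{u}) (p : ℕ) =>
      (e P p).comp (HomologicalComplex.homologyMap ((refineNat f).app P) p).hom) = e' := by
    refine isEdge_unique (J := J) (Y := Y') ?_ he'
    refine { cover := he'.cover, zero := fun P s => ?_, natural := fun P Q φ p x => ?_,
             delta := fun S hS hC p x => ?_ }
    · exact (congrArg (e P 0) (refineNat_toCech f P s)).trans (he.zero P s)
    · refine Eq.trans ?_ (he.natural P Q φ p _)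
      refine congrArg (e Q p) ?_
      refine ConcreteCategory.congr_hom (f := HomologicalComplex.homologyMap _ p ≫
        HomologicalComplex.homologyMap _ p) (g := HomologicalComplex.homologyMap _ p ≫
        HomologicalComplex.homologyMap _ p) ?_ x
      rw [← HomologicalComplex.homologyMap_comp, ← HomologicalComplex.homologyMap_comp,
        (refineNat f).naturality φ]
    · refine Eq.trans ?_ (he.delta S hS (shortExact_cx Y hS) p _)
      refine congrArg (e S.X₁ (p + 1)) ?_
      exact ConcreteCategory.congr_hom (HomologicalComplex.HomologySequence.δ_naturality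
        (S.mapNatTrans (refineNat f)) hC (shortExact_cx Y hS) p (p + 1) rfl) x
  exact DFunLike.congr_fun (congrFun (congrFun h P) p) x

end Groth.Agent.CechEdgeLib
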