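import Groth.Agent.CechEdgeLib.Edge

/-!
The comparison maps on abelian sheaves: injectivity in degree one, bijectivity in the acyclic case.
-/

set_option autoImplicit false
set_option linter.unusedSectionVars false

universe u

open CategoryTheory CategoryTheory.Limits Opposite CategoryTheory.Abelian
open Groth.Agent.EtaleSite Groth.Agent.SiteCoh

namespace Groth.Agent.CechEdgeLib

variable {C : Type u} [SmallCategory C] [HasPullbacks C] {J : GrothendieckTopology C} {U : C}
  {ι : Type u} {Y : ι → Over U}
  {e : ∀ (P : Cᵒᵖ ⥤ AddCommGrpCat.{u}) (p : ℕ), CohCx.cechH P Y p →+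
    CohSite.HU (CechEdge.shf J P) p U}

/-- The presheaf cokernel of the embedding of a sheaf in an injective sheaf. -/
noncomputable abbrev preSeq (F : Sheaf J AddCommGrpCat.{u}) :
    ShortComplex (Cᵒᵖ ⥤ AddCommGrpCat.{u}) :=
  ShortComplex.mk (DimShift.inj F).f.hom (cokernel.π (DimShift.inj F).f.hom) (cokernel.condition _)

lemma preSeq_shortExact (F : Sheaf J AddCommGrpCat.{u}) : (preSeq F).ShortExact :=
  { exact := ShortComplex.exact_of_g_is_cokernel _ (cokernelIsCokernel _)
    mono_f := by
      have := (DimShift.inj_shortExact F).mono_f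
      exact (sheafToPresheaf J AddCommGrpCat.{u}).map_mono (DimShift.inj F).f
    epi_g := coequalizer.π_epi }

/-- The comparison of the presheaf cokernel with the sheaf cokernel. -/
noncomputable def τc (F : Sheaf J AddCommGrpCat.{u}) : (preSeq F).X₃ ⟶ (DimShift.inj F).X₃.obj :=
  cokernel.desc _ (DimShift.inj F).g.hom
    ((congrArg (fun φ : (DimShift.inj F).X₁ ⟶ (DimShift.inj F).X₃ => φ.hom)
      (DimShift.inj F).zero))

lemma π_τc (F : Sheaf J AddCommGrpCat.{u}) :
    (preSeq F).g ≫ τc F = (DimShift.inj F).g.hom :=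
  cokernel.π_desc _ _ _

lemma exists_app_eq (F : Sheaf J AddCommGrpCat.{u}) (T : Cᵒᵖ) (y : (preSeq F).X₃.obj T) :
    ∃ z, (preSeq F).g.app T z = y :=
  (AddCommGrpCat.epi_iff_surjective _).1
    ((preSeq_shortExact F).map_of_exact ((evaluation Cᵒᵖ AddCommGrpCat.{u}).obj T)).epi_g y

lemma τc_app_injective (F : Sheaf J AddCommGrpCat.{u}) (T : Cᵒᵖ) :
    Function.Injective ((τc F).app T) := by
  refine (injective_iff_map_eq_zero _).2 fun y hy => ?_
  obtain ⟨z, rfl⟩ := exists_app_eq F T y
  rw [← ConcreteCategory.comp_apply, ← NatTrans.comp_app, π_τc] at hy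
  have := (DimShift.inj_shortExact F).mono_f
  have h := ((DimShift.inj_shortExact F).exact.map_of_mono_of_preservesKernel
    (sheafToPresheaf J AddCommGrpCat.{u} ⋙ (evaluation Cᵒᵖ AddCommGrpCat.{u}).obj T)
    inferInstance inferInstance)
  rw [ShortComplex.ab_exact_iff] at h
  obtain ⟨x, hx⟩ := h z hy
  rw [← hx]
  exact ConcreteCategory.congr_hom (NatTrans.congr_app (cokernel.condition _) T) x

/-- Comparison of the sheafified sequence with the sequence of sheaves. -/
noncomputable def seqMap (F : Sheaf J AddCommGrpCat.{u}) :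
    (preSeq F).map (presheafToSheaf J AddCommGrpCat.{u}) ⟶ DimShift.inj F where
  τ₁ := (sheafificationAdjunction J AddCommGrpCat.{u}).counit.app F
  τ₂ := (sheafificationAdjunction J AddCommGrpCat.{u}).counit.app (DimShift.inj F).X₂
  τ₃ := CechEdge.shfMap J (τc F) ≫
    (sheafificationAdjunction J AddCommGrpCat.{u}).counit.app (DimShift.inj F).X₃
  comm₁₂ := ((sheafificationAdjunction J AddCommGrpCat.{u}).counit.naturality (DimShift.inj F).f).symm
  comm₂₃ := by
    show _ = CechEdge.shfMap J (preSeq F).g ≫ CechEdge.shfMap J (τc F) ≫ _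
    rw [← Category.assoc, ← Functor.map_comp, π_τc]
    exact ((sheafificationAdjunction J AddCommGrpCat.{u}).counit.naturality (DimShift.inj F).g).symm

lemma isIso_shfMap_τc (F : Sheaf J AddCommGrpCat.{u}) : IsIso (CechEdge.shfMap J (τc F)) := by
  let φ := seqMap F
  have h₁ := shf_shortExact (J := J) (preSeq_shortExact F)
  have h₂ := DimShift.inj_shortExact F
  have : IsIso φ.τ₁ :=
    inferInstanceAs (IsIso ((sheafificationAdjunction J AddCommGrpCat.{u}).counit.app F))
  have : IsIso φ.τ₂ := inferInstanceAs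
    (IsIso ((sheafificationAdjunction J AddCommGrpCat.{u}).counit.app (DimShift.inj F).X₂))
  have := h₁.epi_g
  have := h₂.epi_g
  have hk : (DimShift.inj F).f ≫ inv φ.τ₂ ≫
      ((preSeq F).map (presheafToSheaf J AddCommGrpCat.{u})).g = 0 := by
    rw [← cancel_epi φ.τ₁, comp_zero, ← Category.assoc, φ.comm₁₂, Category.assoc,
      IsIso.hom_inv_id_assoc, ShortComplex.zero]
  let ψ := h₂.gIsCokernel.desc (CokernelCofork.ofπ _ hk)
  have hψ : (DimShift.inj F).g ≫ ψ =
      inv φ.τ₂ ≫ ((preSeq F).map (presheafToSheaf J AddCommGrpCat.{u})).g :=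
    h₂.gIsCokernel.fac (CokernelCofork.ofπ _ hk) WalkingParallelPair.one
  have : IsIso φ.τ₃ := ⟨ψ,
    (cancel_epi ((preSeq F).map (presheafToSheaf J AddCommGrpCat.{u})).g).1 (by
      rw [Category.comp_id, ← Category.assoc, ← φ.comm₂₃, Category.assoc, hψ,
        IsIso.hom_inv_id_assoc]),
    (cancel_epi (DimShift.inj F).g).1 (by
      rw [Category.comp_id, ← Category.assoc, hψ, Category.assoc, ← φ.comm₂₃,
        IsIso.inv_hom_id_assoc])⟩
  exact @IsIso.of_isIso_comp_right _ _ _ _ _ (CechEdge.shfMap J (τc F))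
    ((sheafificationAdjunction J AddCommGrpCat.{u}).counit.app (DimShift.inj F).X₃) inferInstance
    (inferInstanceAs (IsIso φ.τ₃))

/-! ### Degree zero -/

lemma zero_bijective (he : CechEdge.IsEdge J Y e) (F : Sheaf J AddCommGrpCat.{u}) :
    Function.Bijective (e F.obj 0) := by
  have hb := toCech_bijective_of_isSheaf Y F.obj J he.cover F.property
  have hu : Function.Bijective ((toSheafify J F.obj).app (op U)) := by
    have : IsIso ((toSheafify J F.obj).app (op U)) := by
      rw [← isoSheafify_hom J F.property]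
      infer_instance
    exact ConcreteCategory.bijective_of_isIso _
  refine (Function.Bijective.of_comp_iff _ hb).1 ?_
  have : (e F.obj 0 ∘ CechEdge.toCech Y F.obj) =
      CechEdge.sectH0 J U (CechEdge.shf J F.obj) ∘ (toSheafify J F.obj).app (op U) :=
    funext (he.zero F.obj)
  rw [this]
  exact (CechEdge.sectH0 J U _).bijective.comp hu

lemma cechHMap_zero_injective {P Q : Cᵒᵖ ⥤ AddCommGrpCat.{u}} (φ : P ⟶ Q)
    (h : ∀ T, Function.Injective (φ.app T)) : Function.Injective (CechEdge.cechHMap Y φ 0) :=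
  fun x y hxy => toX₀_injective Y P (val_ext Y P fun i => h _ (by
    rw [← val_naturality, ← val_naturality, ← toX₀_naturality, ← toX₀_naturality, hxy]))

lemma preSeq_zero_injective (he : CechEdge.IsEdge J Y e) (F : Sheaf J AddCommGrpCat.{u}) :
    Function.Injective (e (preSeq F).X₃ 0) := fun x y hxy => by
  refine cechHMap_zero_injective (τc F) (τc_app_injective F)
    ((zero_bijective he (DimShift.inj F).X₃).1 ?_)
  rw [he.natural, he.natural, hxy]

/-! ### One step -/

variable (F : Sheaf J AddCommGrpCat.{u})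

lemma injective_obj_inj : Injective (preSeq F).X₂ :=
  Injective.injective_of_adjoint (sheafificationAdjunction J AddCommGrpCat.{u}) (DimShift.inj F).X₂

lemma injective_shf_inj : Injective (CechEdge.shf J (preSeq F).X₂) :=
  Injective.of_iso (asIso ((sheafificationAdjunction J AddCommGrpCat.{u}).counit.app
    (DimShift.inj F).X₂)).symm inferInstance

lemma step_injective (he : CechEdge.IsEdge J Y e) (p : ℕ)
    (hQ : Function.Injective (e (preSeq F).X₃ p)) : Function.Injective (e F.obj (p + 1)) := by
  have := injective_obj_inj F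
  have := injective_shf_inj F
  refine (injective_iff_map_eq_zero _).2 fun x hx => ?_
  obtain ⟨y, rfl⟩ := cδ_surjective_of_injective Y (shortExact_cx Y (preSeq_shortExact F)) p x
  have h1 := he.delta _ (preSeq_shortExact F) (shortExact_cx Y (preSeq_shortExact F)) p y
  obtain ⟨w, hw⟩ := exists_HUmap_g_of_extδ_eq_zero (shf_shortExact (J := J) (preSeq_shortExact F))
    U p (e (preSeq F).X₃ p y) (h1.symm.trans hx)
  obtain ⟨z, hz⟩ : ∃ z, e (preSeq F).X₂ p z = w := by
    rcases p with _ | q
    · exact (zero_bijective he (DimShift.inj F).X₂).2 w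
    · have : Subsingleton (CohSite.HU (CechEdge.shf J (preSeq F).X₂) (q + 1) U) :=
        ⟨fun a b => (Ext.eq_zero_of_injective (I := CechEdge.shf J (preSeq F).X₂) a).trans
          (Ext.eq_zero_of_injective (I := CechEdge.shf J (preSeq F).X₂) b).symm⟩
      exact ⟨0, Subsingleton.elim _ _⟩
  have hy : y = CechEdge.cechHMap Y (preSeq F).g p z := hQ (by
    rw [he.natural, hz]
    exact hw.symm)
  rw [hy]
  exact cδ_cechHMap_g Y (shortExact_cx Y (preSeq_shortExact F)) p z

lemma step_surjective (he : CechEdge.IsEdge J Y e) (p : ℕ)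
    (hQ : Function.Surjective (e (preSeq F).X₃ p)) : Function.Surjective (e F.obj (p + 1)) :=
  fun x => by
    have := injective_shf_inj F
    obtain ⟨v, hv⟩ := exists_extδ_of_HUmap_f_eq_zero
      (shf_shortExact (J := J) (preSeq_shortExact F)) U p x
      (Ext.eq_zero_of_injective (I := CechEdge.shf J (preSeq F).X₂) _)
    obtain ⟨y, rfl⟩ := hQ v
    exact ⟨cδ Y (shortExact_cx Y (preSeq_shortExact F)) p y,
      (he.delta _ (preSeq_shortExact F) (shortExact_cx Y (preSeq_shortExact F)) p y).trans hv⟩

lemma edgeSh_bijective_iff (p : ℕ) :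
    Function.Bijective (CechEdge.edgeSh e F p) ↔ Function.Bijective (e F.obj p) :=
  Function.Bijective.of_comp_iff'
    (HUmap_bijective ((sheafificationAdjunction J AddCommGrpCat.{u}).counit.app F) p U) _

theorem edgeSh_one_injective (he : CechEdge.IsEdge J Y e) :
    Function.Injective (CechEdge.edgeSh e F 1) :=
  (HUmap_injective ((sheafificationAdjunction J AddCommGrpCat.{u}).counit.app F) 1 U).comp
    (step_injective F he 0 (preSeq_zero_injective he F))

/-! ### The acyclic case -/

lemma τc_app_bijective (V : C) (h : Subsingleton (CohSite.HU F 1 V)) :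
    Function.Bijective ((τc F).app (op V)) := by
  refine ⟨τc_app_injective F _, fun y => ?_⟩
  have : Subsingleton (Ext (CohCx.freeSheaf J V) (DimShift.inj F).X₁ 1) := h
  obtain ⟨a, ha⟩ := DimShift.exists_lift (DimShift.inj_shortExact F)
    ((CohFree.homEquivSect J V (DimShift.inj F).X₃).symm y)
  refine ⟨(preSeq F).g.app (op V) (CohFree.homEquivSect J V (DimShift.inj F).X₂ a), ?_⟩
  rw [← ConcreteCategory.comp_apply, ← NatTrans.comp_app, π_τc]
  have e := congrArg (CohFree.homEquivSect J V (DimShift.inj F).X₃) ha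
  rw [AddEquiv.apply_symm_apply] at e
  exact e

lemma cechHMap_bijective {P Q : Cᵒᵖ ⥤ AddCommGrpCat.{u}} (φ : P ⟶ Q)
    (h : ∀ (n : ℕ) (a : Fin (n + 1) → ι), Function.Bijective (φ.app (op (CechPre.obj Y a)))) (p : ℕ) :
    Function.Bijective (CechEdge.cechHMap Y φ p) := by
  have hf : ∀ n, IsIso (((CechEdge.cxFunctor Y).map φ).f n) := fun n => by
    rw [ConcreteCategory.isIso_iff_bijective]
    refine ⟨fun c c' hc => CechPre.comp_ext Y P fun a => (h n a).1 ?_, fun d => ?_⟩
    · rw [← comp_map, ← comp_map, hc]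
    · choose z hz using fun a => (h n a).2 (CechPre.comp Y Q a d)
      exact ⟨CechPre.mk Y P z, CechPre.comp_ext Y Q fun a => by
        rw [comp_map, CechPre.comp_mk, hz]⟩
  have : IsIso ((CechEdge.cxFunctor Y).map φ) :=
    HomologicalComplex.Hom.isIso_of_components _
  have : IsIso (HomologicalComplex.homologyMap ((CechEdge.cxFunctor Y).map φ) p) :=
    inferInstanceAs (IsIso ((HomologicalComplex.homologyFunctor _ _ p).map _))
  exact ConcreteCategory.bijective_of_isIso _

theorem bijective_of_acyclic (he : CechEdge.IsEdge J Y e) (p : ℕ) :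
    ∀ (F : Sheaf J AddCommGrpCat.{u}),
      (∀ (n : ℕ) (a : Fin (n + 1) → ι) (q : ℕ),
        Subsingleton (CohSite.HU F (q + 1) (∏ᶜ fun k => Y (a k)).left)) →
      Function.Bijective (e F.obj p) := by
  induction p with
  | zero => exact fun F _ => zero_bijective he F
  | succ p ih =>
    intro F h
    have hG := ih (DimShift.inj F).X₃ fun n a q =>
      DimShift.subsingleton_cokernel (M := CohCx.freeSheaf J (∏ᶜ fun k => Y (a k)).left)
        (DimShift.inj_shortExact F) (fun q => h n a q) q
    have hC := cechHMap_bijective (Y := Y) (τc F) (fun n a => τc_app_bijective F _ (h n a 0)) p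
    have := isIso_shfMap_τc F
    have hQ : Function.Bijective (e (preSeq F).X₃ p) := by
      refine (Function.Bijective.of_comp_iff'
        (HUmap_bijective (CechEdge.shfMap J (τc F)) p U) _).1 ?_
      have : (CechEdge.HUmap (CechEdge.shfMap J (τc F)) p U ∘ e (preSeq F).X₃ p) =
          e (DimShift.inj F).X₃.obj p ∘ CechEdge.cechHMap Y (τc F) p :=
        funext fun x => (he.natural _ _ (τc F) p x).symm
      rw [this]
      exact hG.comp hC
    exact ⟨step_injective F he p hQ.1, step_surjective F he p hQ.2⟩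

end Groth.Agent.CechEdgeLib
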