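import Groth.Prelude.Def_CechEdge
import Groth.Agent.EtaleSite.CechPre

/-!
Čech cohomology in degree zero: compatible families, and the sheaf condition.
-/

set_option autoImplicit false

universe u

open CategoryTheory CategoryTheory.Limits Opposite
open Groth.Agent.EtaleSite

namespace Groth.Agent.CechEdgeLib

variable {C : Type u} [SmallCategory C] [HasPullbacks C] {U : C} {ι : Type u} (Y : ι → Over U)
  (P : Cᵒᵖ ⥤ AddCommGrpCat.{u})

/-- The constant one-tuple. -/
abbrev one (i : ι) : Fin 1 → ι := fun _ => i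

/-- The section of the projection from a product of one object. -/
noncomputable def σ₀ (i : ι) : (Y i).left ⟶ CechPre.obj Y (one i) :=
  (Pi.lift fun _ => 𝟙 (Y i) : Y i ⟶ ∏ᶜ (Y ∘ one i)).left

lemma σ₀_π (i : ι) (k : Fin 1) : σ₀ Y i ≫ CechPre.π Y (one i) k = 𝟙 _ := by
  rw [σ₀, CechPre.π, ← Over.comp_left, Pi.lift_π]
  rfl

lemma π_σ₀ (i : ι) : CechPre.π Y (one i) 0 ≫ σ₀ Y i = 𝟙 _ :=
  CechPre.hom_ext Y fun k => by
    obtain rfl : k = 0 := Subsingleton.elim (α := Fin 1) _ _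
    rw [Category.assoc, σ₀_π, Category.comp_id, Category.id_comp]

/-- The value of a zero-cochain at an index. -/
noncomputable def val (c : (CechEdge.cx P Y).X 0) (i : ι) : P.obj (op (Y i).left) :=
  P.map (σ₀ Y i).op (CechPre.comp Y P (one i) c)

lemma comp_eq_val (c : (CechEdge.cx P Y).X 0) (b : Fin 1 → ι) :
    CechPre.comp Y P b c = P.map (CechPre.π Y b 0).op (val Y P c (b 0)) := by
  obtain ⟨i, rfl⟩ : ∃ i, b = one i := ⟨b 0, funext fun k => congrArg b (Subsingleton.elim k 0)⟩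
  rw [val, ← ConcreteCategory.comp_apply, ← P.map_comp, ← op_comp, π_σ₀, op_id, P.map_id]
  rfl

lemma val_ext {c c' : (CechEdge.cx P Y).X 0} (h : ∀ i, val Y P c i = val Y P c' i) : c = c' :=
  CechPre.comp_ext Y P fun b => by rw [comp_eq_val, comp_eq_val, h]

lemma val_toCech₀ (s : P.obj (op U)) (i : ι) :
    val Y P (CechEdge.toCech₀ P Y s) i = P.map (Y i).hom.op s := by
  have h : CechPre.comp Y P (one i) (CechEdge.toCech₀ P Y s) =
      P.map (∏ᶜ (Y ∘ one i)).hom.op s := by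
    rw [← ConcreteCategory.comp_apply]
    exact ConcreteCategory.congr_hom
      (Pi.lift_π (fun i : Fin 1 → ι => P.map (∏ᶜ (Y ∘ i)).hom.op) (one i)) s
  rw [val, h, ← ConcreteCategory.comp_apply, ← P.map_comp, ← op_comp,
    ← CechPre.π_hom Y (one i) 0, ← Category.assoc, σ₀_π, Category.id_comp]

/-- The component of the differential of a zero-cochain. -/
lemma comp_d_val (c : (CechEdge.cx P Y).X 0) (a : Fin 2 → ι) :
    CechPre.comp Y P a ((CechEdge.cx P Y).d 0 1 c) =
      P.map (CechPre.π Y a 1).op (val Y P c (a 1)) -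
        P.map (CechPre.π Y a 0).op (val Y P c (a 0)) := by
  refine (CechPre.comp_d_apply Y P (n := 0) a c).trans ?_
  have h : ∀ k : Fin 2, P.map (CechPre.face Y a k).op (CechPre.comp Y P (a ∘ k.succAbove) c) =
      P.map (CechPre.π Y a (k.succAbove 0)).op (val Y P c (a (k.succAbove 0))) := fun k => by
    rw [comp_eq_val, ← ConcreteCategory.comp_apply, ← P.map_comp, ← op_comp, CechPre.face_π]
    rfl
  rw [Fin.sum_univ_two, h, h]
  simp only [Fin.val_zero, pow_zero, one_smul, Fin.val_one, pow_one, neg_smul, ← sub_eq_add_neg]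
  rfl

lemma compatible_of_d_eq_zero (c : (CechEdge.cx P Y).X 0) (hc : (CechEdge.cx P Y).d 0 1 c = 0) :
    Presieve.Arrows.Compatible (P ⋙ forget AddCommGrpCat) (fun i => (Y i).hom) (val Y P c) := by
  intro i j W g h hw
  let t : CechPre.Tup Y W 1 := ⟨Fin.cons ⟨i, g⟩ (fun _ => ⟨j, h⟩), fun k => by
    induction k using Fin.cases with
    | zero => rfl
    | succ k => exact hw.symm⟩
  have e := comp_d_val Y P c (fun k => (t.1 k).1)
  rw [hc, map_zero, eq_comm, sub_eq_zero] at e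
  have e' := congrArg (P.map (CechPre.toObj Y t).op) e
  simp only [← ConcreteCategory.comp_apply, ← P.map_comp, ← op_comp, CechPre.toObj_π] at e'
  exact e'.symm

lemma exists_of_compatible (x : ∀ i, P.obj (op (Y i).left))
    (hx : Presieve.Arrows.Compatible (P ⋙ forget AddCommGrpCat) (fun i => (Y i).hom) x) :
    ∃ c : (CechEdge.cx P Y).X 0, (CechEdge.cx P Y).d 0 1 c = 0 ∧ ∀ i, val Y P c i = x i := by
  let c : (CechEdge.cx P Y).X 0 := CechPre.mk Y P fun b => P.map (CechPre.π Y b 0).op (x (b 0))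
  have hv : ∀ i, val Y P c i = x i := fun i => by
    rw [val, CechPre.comp_mk, ← ConcreteCategory.comp_apply, ← P.map_comp, ← op_comp, σ₀_π, op_id,
      P.map_id]
    rfl
  refine ⟨c, CechPre.comp_ext Y P fun a => ?_, hv⟩
  rw [comp_d_val, hv, hv, map_zero, sub_eq_zero]
  exact hx _ _ _ (CechPre.π Y a 1) (CechPre.π Y a 0)
    ((CechPre.π_hom Y a 1).trans (CechPre.π_hom Y a 0).symm)

/-- The cochain of a class in degree zero. -/
noncomputable def toX₀ : CohCx.cechH P Y 0 ⟶ (CechEdge.cx P Y).X 0 :=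
  haveI : IsIso ((CechEdge.cx P Y).homologyπ 0) :=
    (CechEdge.cx P Y).isIso_homologyπ 0 0 (by simp) ((CechEdge.cx P Y).shape 0 0 (by simp))
  inv ((CechEdge.cx P Y).homologyπ 0) ≫ (CechEdge.cx P Y).iCycles 0

instance : Mono (toX₀ Y P) := by
  unfold toX₀
  infer_instance

lemma homologyπ_toX₀ : (CechEdge.cx P Y).homologyπ 0 ≫ toX₀ Y P = (CechEdge.cx P Y).iCycles 0 := by
  rw [toX₀, IsIso.hom_inv_id_assoc]

lemma toX₀_injective : Function.Injective (toX₀ Y P) :=
  (AddCommGrpCat.mono_iff_injective _).1 inferInstance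

lemma toX₀_d (x : CohCx.cechH P Y 0) : (CechEdge.cx P Y).d 0 1 (toX₀ Y P x) = 0 := by
  rw [← ConcreteCategory.comp_apply, toX₀, Category.assoc, HomologicalComplex.iCycles_d,
    comp_zero]
  rfl

lemma exists_toX₀ (c : (CechEdge.cx P Y).X 0) (hc : (CechEdge.cx P Y).d 0 1 c = 0) :
    ∃ x, toX₀ Y P x = c := by
  let c' : AddCommGrpCat.of (ULift.{u} ℤ) ⟶ (CechEdge.cx P Y).X 0 :=
    AddCommGrpCat.ofHom ((zmultiplesHom _ c).comp AddEquiv.ulift.toAddMonoidHom)
  have h : c' ≫ (CechEdge.cx P Y).d 0 1 = 0 := by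
    ext n
    show (CechEdge.cx P Y).d 0 1 (n.down • c) = 0
    rw [map_zsmul, hc, smul_zero]
  refine ⟨(CechEdge.cx P Y).homologyπ 0 ((CechEdge.cx P Y).liftCycles c' 1 (by simp) h ⟨1⟩), ?_⟩
  rw [← ConcreteCategory.comp_apply, homologyπ_toX₀, ← ConcreteCategory.comp_apply,
    HomologicalComplex.liftCycles_i]
  exact one_zsmul c

lemma toX₀_toCech (s : P.obj (op U)) :
    toX₀ Y P (CechEdge.toCech Y P s) = CechEdge.toCech₀ P Y s := by
  show toX₀ Y P ((CechEdge.toCycles P Y ≫ (CechEdge.cx P Y).homologyπ 0) s) = _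
  rw [← ConcreteCategory.comp_apply, Category.assoc, homologyπ_toX₀, CechEdge.toCycles_i]

theorem toCech_bijective_iff :
    Function.Bijective (CechEdge.toCech Y P) ↔
      (Presieve.ofArrows (fun i => (Y i).left) (fun i => (Y i).hom)).IsSheafFor
        (P ⋙ forget AddCommGrpCat) := by
  rw [Presieve.isSheafFor_arrows_iff]
  constructor
  · rintro ⟨hinj, hsurj⟩ x hx
    obtain ⟨c, hc, hcx⟩ := exists_of_compatible Y P x hx
    obtain ⟨z, hz⟩ := exists_toX₀ Y P c hc
    obtain ⟨s, hs⟩ := hsurj z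
    refine ⟨s, fun i => ?_, fun t ht => hinj (toX₀_injective Y P (val_ext Y P fun i => ?_))⟩
    · rw [← hcx, ← hz, ← hs, toX₀_toCech, val_toCech₀]
      rfl
    · rw [toX₀_toCech, hs, hz, val_toCech₀, hcx]
      exact ht i
  · intro h
    refine ⟨fun s t hst => ?_, fun z => ?_⟩
    · obtain ⟨w, -, hw⟩ := h (fun i => P.map (Y i).hom.op t) (fun i j W g g' hgg' => by
        show P.map g.op (P.map (Y i).hom.op t) = P.map g'.op (P.map (Y j).hom.op t)
        rw [← ConcreteCategory.comp_apply, ← ConcreteCategory.comp_apply, ← P.map_comp,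
          ← P.map_comp, ← op_comp, ← op_comp, hgg'])
      exact (hw s fun i => ((val_toCech₀ Y P s i).symm.trans
        ((congrArg (fun c => val Y P c i) (by rw [← toX₀_toCech, ← toX₀_toCech, hst])).trans
          (val_toCech₀ Y P t i)))).trans (hw t fun i => rfl).symm
    · obtain ⟨s, hs, -⟩ := h _ (compatible_of_d_eq_zero Y P (toX₀ Y P z) (toX₀_d Y P z))
      refine ⟨s, toX₀_injective Y P (val_ext Y P fun i => ?_)⟩
      rw [toX₀_toCech, val_toCech₀]
      exact hs i

theorem toCech_bijective_of_isSheaf (J : GrothendieckTopology C)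
    (hY : Sieve.ofArrows (fun i => (Y i).left) (fun i => (Y i).hom) ∈ J U)
    (hP : Presheaf.IsSheaf J P) : Function.Bijective (CechEdge.toCech Y P) := by
  rw [toCech_bijective_iff, Presieve.isSheafFor_iff_generate]
  exact ((isSheaf_iff_isSheaf_of_type J _).1
    ((Presheaf.isSheaf_iff_isSheaf_forget J P (forget AddCommGrpCat.{u})).1 hP)) _ hY

variable {P}

lemma toX₀_naturality {Q : Cᵒᵖ ⥤ AddCommGrpCat.{u}} (φ : P ⟶ Q) (x : CohCx.cechH P Y 0) :
    toX₀ Y Q (CechEdge.cechHMap Y φ 0 x) = ((CechEdge.cxFunctor Y).map φ).f 0 (toX₀ Y P x) := by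
  have h : HomologicalComplex.homologyMap ((CechEdge.cxFunctor Y).map φ) 0 ≫ toX₀ Y Q =
      toX₀ Y P ≫ ((CechEdge.cxFunctor Y).map φ).f 0 := by
    have : IsIso ((CechEdge.cx P Y).homologyπ 0) :=
      (CechEdge.cx P Y).isIso_homologyπ 0 0 (by simp) ((CechEdge.cx P Y).shape 0 0 (by simp))
    rw [← cancel_epi ((CechEdge.cx P Y).homologyπ 0), ← Category.assoc, ← Category.assoc,
      homologyπ_toX₀]
    refine (congrArg (· ≫ toX₀ Y Q)
      (HomologicalComplex.homologyπ_naturality ((CechEdge.cxFunctor Y).map φ) 0)).trans ?_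
    rw [Category.assoc]
    refine (congrArg (_ ≫ ·) (homologyπ_toX₀ Y Q)).trans ?_
    exact HomologicalComplex.cyclesMap_i ((CechEdge.cxFunctor Y).map φ) 0
  exact ConcreteCategory.congr_hom h x

lemma comp_map {Q : Cᵒᵖ ⥤ AddCommGrpCat.{u}} (φ : P ⟶ Q) {n : ℕ} (b : Fin (n + 1) → ι)
    (c : (CechEdge.cx P Y).X n) :
    CechPre.comp Y Q b (((CechEdge.cxFunctor Y).map φ).f n c) =
      φ.app (op (CechPre.obj Y b)) (CechPre.comp Y P b c) := by
  have h : ((CechEdge.cxFunctor Y).map φ).f n ≫ CechPre.comp Y Q b =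
      CechPre.comp Y P b ≫ φ.app (op (CechPre.obj Y b)) :=
    Limits.Pi.map_π (fun b : Fin (n + 1) → ι => φ.app (op (∏ᶜ (Y ∘ b)).left)) b
  exact ConcreteCategory.congr_hom h c

lemma val_naturality {Q : Cᵒᵖ ⥤ AddCommGrpCat.{u}} (φ : P ⟶ Q) (c : (CechEdge.cx P Y).X 0) (i : ι) :
    val Y Q (((CechEdge.cxFunctor Y).map φ).f 0 c) i = φ.app (op (Y i).left) (val Y P c i) := by
  rw [val, comp_map]
  exact (NatTrans.naturality_apply φ (σ₀ Y i).op _).symm

lemma cechHMap_toCech {Q : Cᵒᵖ ⥤ AddCommGrpCat.{u}} (φ : P ⟶ Q) (s : P.obj (op U)) :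
    CechEdge.cechHMap Y φ 0 (CechEdge.toCech Y P s) = CechEdge.toCech Y Q (φ.app (op U) s) := by
  refine toX₀_injective Y Q (val_ext Y Q fun i => ?_)
  rw [toX₀_naturality, toX₀_toCech, toX₀_toCech, val_naturality, val_toCech₀, val_toCech₀]
  exact NatTrans.naturality_apply φ (Y i).hom.op s

end Groth.Agent.CechEdgeLib
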